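import Groth.Agent.PerfHomLib.Van
import Groth.Agent.QRlimLib.Trunc

/-!
# Vanishing of maps out of perfect objects and truncations
-/

set_option autoImplicit false
set_option linter.style.haveILetI false

universe u

open CategoryTheory CategoryTheory.Limits CategoryTheory.Pretriangulated AlgebraicGeometry
open DerivedCategory.TStructure (t)

attribute [local instance] HasDerivedCategory.standard

namespace PerfHomLib

variable {X : Scheme.{u}}

theorem isZero_HD_shift {L : DCoh.D X} {n i : ℤ} (h : IsZero (DCoh.HD L (i + n))) :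
    IsZero (DCoh.HD (L⟦n⟧) i) :=
  h.of_iso (((DerivedCategory.homologyFunctor X.Modules 0).shiftIso n i (i + n) (by omega)).app L)

theorem hom_shift_eq_zero_of_range {M : DCoh.D X} {lo hi : ℤ} (h : Van M lo hi) {L : DCoh.D X}
    (hL : DCoh.IsQCohD L) {a b n : ℤ} [L.IsGE a] [L.IsLE b] (hn : hi + n < a ∨ b < lo + n)
    (φ : M ⟶ L⟦n⟧) : φ = 0 :=
  h _ (KFlatLib.isQCohD_shift hL n) (fun i h₁ h₂ => isZero_HD_shift <| by
    rcases hn with hn | hn
    · exact DerivedCategory.isZero_of_isGE L a _ (by omega)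
    · exact DerivedCategory.isZero_of_isLE L b _ (by omega)) φ

/-- Vanishing into the middle and the last vertex of a triangle agree below the first. -/
theorem hom_iff_of_triangle {T : Triangle (DCoh.D X)} (hT : T ∈ distTriang _) {M : DCoh.D X}
    (h₁ : ∀ φ : M ⟶ T.obj₁, φ = 0) (h₁' : ∀ φ : M ⟶ T.obj₁⟦(1 : ℤ)⟧, φ = 0) :
    (∀ φ : M ⟶ T.obj₂, φ = 0) ↔ ∀ φ : M ⟶ T.obj₃, φ = 0 := by
  refine ⟨fun h φ => ?_, fun h φ => ?_⟩
  · obtain ⟨ψ, hψ⟩ := Triangle.coyoneda_exact₃ _ hT φ (h₁' _)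
    rw [hψ, h ψ, zero_comp]
  · obtain ⟨ψ, hψ⟩ := Triangle.coyoneda_exact₂ _ hT φ (h _)
    rw [hψ, h₁ ψ, zero_comp]

/-- Vanishing into the first and the middle vertex of a triangle agree away from the last. -/
theorem hom_iff_of_triangle' {T : Triangle (DCoh.D X)} (hT : T ∈ distTriang _) {M : DCoh.D X}
    (h₃ : ∀ φ : M ⟶ T.obj₃, φ = 0) (h₃' : ∀ φ : M ⟶ T.obj₃⟦(-1 : ℤ)⟧, φ = 0) :
    (∀ φ : M ⟶ T.obj₂, φ = 0) ↔ ∀ φ : M ⟶ T.obj₁, φ = 0 := by
  refine ⟨fun h φ => ?_, fun h φ => ?_⟩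
  · obtain ⟨ψ, hψ⟩ := Triangle.coyoneda_exact₂ _ (inv_rot_of_distTriang _ hT) φ (h _)
    exact hψ.trans ((congrArg (· ≫ _) (h₃' ψ)).trans zero_comp)
  · obtain ⟨ψ, hψ⟩ := Triangle.coyoneda_exact₂ _ hT φ (h₃ _)
    rw [hψ, h ψ, zero_comp]

variable {P E : DCoh.D X}

theorem hom_shift_iff_truncGE {lo hi : ℤ} (hP : Van P lo hi) (hE : DCoh.IsQCohD E) (a i : ℤ)
    (hi' : a ≤ lo + i) :
    (∀ φ : P⟦-i⟧ ⟶ E, φ = 0) ↔ ∀ φ : P⟦-i⟧ ⟶ (t.truncGE a).obj E, φ = 0 := by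
  have hT := t.triangleLTGE_distinguished a E
  haveI : ((t.truncLT a).obj E).IsLE (a - 1) := inferInstance
  have hq : DCoh.IsQCohD ((t.truncLT a).obj E) := fun q => by
    by_cases hq : q < a
    · exact @QCohLib.isQCoh_of_iso _ _ _
        (@asIso _ _ _ _ _ (Groth.Agent.DerLib.Devissage.isIso_homology_truncLEι E (a - 1) q (by omega))).symm
        (hE q) |> fun h => by simpa [Triangulated.TStructure.truncLE] using h
    · exact KFlatLib.isQCoh_zero (DerivedCategory.isZero_of_isLE _ (a - 1) q (by omega))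
  have hz : ∀ k, a ≤ k → IsZero (DCoh.HD ((t.truncLT a).obj E) k) := fun k hk =>
    DerivedCategory.isZero_of_isLE _ (a - 1) k (by omega)
  exact hom_iff_of_triangle hT
    ((hP.shift (-i)) _ hq fun k h₁ h₂ => hz k (by omega))
    ((hP.shift (-i)) _ (KFlatLib.isQCohD_shift hq 1) fun k h₁ h₂ => isZero_HD_shift (hz _ (by omega)))

theorem hom_shift_iff_truncLE {lo hi : ℤ} (hP : Van P lo hi) (hE : DCoh.IsQCohD E) (a i : ℤ)
    (hi' : hi + i < a) :
    (∀ φ : P⟦-i⟧ ⟶ E, φ = 0) ↔ ∀ φ : P⟦-i⟧ ⟶ (t.truncLE a).obj E, φ = 0 := by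
  have hT := t.triangleLEGT_distinguished a E
  haveI : ((t.truncGT a).obj E).IsGE (a + 1) := inferInstance
  have hq : DCoh.IsQCohD ((t.truncGT a).obj E) := fun q => by
    by_cases hq : a < q
    · exact @QCohLib.isQCoh_of_iso _ _ _
        (@asIso _ _ _ _ _ (Groth.Agent.DerLib.Devissage.isIso_homology_truncGTπ E a q hq)) (hE q)
    · exact KFlatLib.isQCoh_zero (DerivedCategory.isZero_of_isGE _ (a + 1) q (by omega))
  have hz : ∀ k, k ≤ a → IsZero (DCoh.HD ((t.truncGT a).obj E) k) := fun k hk =>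
    DerivedCategory.isZero_of_isGE _ (a + 1) k (by omega)
  exact hom_iff_of_triangle' hT
    ((hP.shift (-i)) _ hq fun k h₁ h₂ => hz k (by omega))
    ((hP.shift (-i)) _ (KFlatLib.isQCohD_shift hq (-1)) fun k h₁ h₂ => isZero_HD_shift (hz _ (by omega)))

end PerfHomLib
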