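import Groth.Agent.FlatLib.SectionsFP
import Groth.Agent.FinLFAnnLib.Main
import Groth.Agent.KFlatLib.FreeModel
import Groth.Agent.KFlatLib.QCohTerms
import Groth.Agent.ProjFormLib.Frame
import Groth.Agent.PerfLib.Restrict
import Mathlib.RingTheory.LocalProperties.FinitePresentation
import Mathlib.RingTheory.Flat.Localization

/-!
# Finite locally free modules on affine schemes are retracts of finite free modules
-/

set_option autoImplicit false
set_option linter.style.haveILetI false

universe u

open CategoryTheory CategoryTheory.Limits AlgebraicGeometry TopologicalSpace Opposite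

namespace PerfHomLib

open ProjFormLib

theorem bijective_linearCombination_of_isFrame {X : Scheme.{u}} {F : X.Modules} [Coh.IsQCoh F]
    {n : ℕ} {V : X.Opens} (hV : IsAffineOpen V) {e : Fin n → Γ(F, V)} (he : IsFrame F e) :
    Function.Bijective (Fintype.linearCombination Γ(X, V) e) := by
  constructor
  · refine (injective_iff_map_eq_zero _).2 fun c hc => funext fun i => ?_
    refine TopCat.Presheaf.section_ext X.sheaf V _ _ fun y hy => ?_
    have h := congrArg (ger F y hy) hc
    rw [Fintype.linearCombination_apply, show ger F y hy (0 : Γ(F, V)) = 0 from map_zero (F.presheaf.germ V y hy).hom] at h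
    have h' : Fintype.linearCombination (X.presheaf.stalk y) (fun i => ger F y hy (e i))
        (fun i => X.presheaf.germ V y hy (c i)) = 0 := by
      refine Eq.trans ?_ h
      rw [Fintype.linearCombination_apply]
      refine Eq.trans (Finset.sum_congr rfl fun i _ => (ger_smul F y hy (c i) (e i)).symm) ?_
      exact (map_sum (F.presheaf.germ V y hy).hom _ _).symm
    have := congrFun ((he y hy).1 (h'.trans (map_zero _).symm)) i
    exact this.trans (map_zero (X.presheaf.germ V y hy).hom).symm
  · rw [← LinearMap.range_eq_top, Fintype.range_linearCombination]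
    let s : ULift.{u} (Fin n) → Γ(F, V) := fun i => e i.down
    have hs : Set.range s = Set.range e := Equiv.ulift.surjective.range_comp e
    rw [← hs]
    refine FlatLib.span_eq_top_of_genOn hV ?_
    intro V' hV' t p hp
    obtain ⟨a, ha⟩ := (he p (hV' hp)).2 (ger F p hp t)
    choose U hpU c hc using fun i => X.presheaf.exists_germ_eq (x := p) (a i)
    let W₀ : Opens X.toTopCat := V' ⊓ Finset.univ.inf U
    have hpW₀ : p ∈ W₀ := ⟨hp, Finset.inf_induction (p := fun T : Opens X.toTopCat => p ∈ T) trivial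
      (fun _ h₁ _ h₂ => ⟨h₁, h₂⟩) fun i _ => hpU i⟩
    have hle : ∀ i, W₀ ≤ U i := fun i => inf_le_right.trans (Finset.inf_le (Finset.mem_univ i))
    let d : Fin n → Γ(X, W₀) := fun i => X.presheaf.map (homOfLE (hle i)).op (c i)
    let u₁ : Γ(F, W₀) := F.presheaf.map (homOfLE (inf_le_left : W₀ ≤ V')).op t
    let u₂ : Γ(F, W₀) := ∑ i, d i • res F ((inf_le_left : W₀ ≤ V').trans hV') (e i)
    have hg : F.presheaf.germ W₀ p hpW₀ u₁ = F.presheaf.germ W₀ p hpW₀ u₂ := by
      change ger F p hpW₀ u₁ = ger F p hpW₀ u₂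
      refine (ger_res F _ p hpW₀ t).trans (ha.symm.trans ?_)
      rw [Fintype.linearCombination_apply]
      refine Eq.trans (Finset.sum_congr rfl fun i _ => ?_) (map_sum (F.presheaf.germ W₀ p hpW₀).hom _ _).symm
      refine Eq.trans ?_ (ger_smul F p hpW₀ (d i) (res F _ (e i))).symm
      rw [ger_res]
      congr 1
      exact ((TopCat.Presheaf.germ_res_apply X.presheaf _ p hpW₀ (c i)).trans (hc i)).symm
    obtain ⟨W, hpW, iV, iV', hW⟩ := F.presheaf.germ_eq p hpW₀ hpW₀ u₁ u₂ hg
    obtain rfl : iV = iV' := Subsingleton.elim _ _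
    refine ⟨W, (leOfHom iV).trans inf_le_left, ((leOfHom iV).trans inf_le_left).trans hV', hpW,
      fun i => X.presheaf.map iV.op (d i.down), ?_⟩
    refine (QCohLib.map_map' F _ _ t).symm.trans (hW.trans ?_)
    refine (map_sum (F.presheaf.map iV.op).hom _ _).trans ?_
    refine Eq.trans (Finset.sum_congr rfl fun i _ => ?_)
      (Equiv.ulift.{u}.sum_comp fun i => X.presheaf.map iV.op (d i) •
        F.presheaf.map (homOfLE (((leOfHom iV).trans inf_le_left).trans hV')).op (e i)).symm
    refine (Scheme.Modules.map_smul F iV (d i) _).trans ?_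
    exact congrArg _ (QCohLib.map_map' F _ _ (e i))

variable {R : CommRingCat.{u}}

theorem projective_finite_sections {F : (Spec R).Modules} (hF : FlatMod.IsFinLocFree F) :
    Module.Finite R (moduleSpecΓFunctor.obj F) ∧ Module.Projective R (moduleSpecΓFunctor.obj F) := by
  haveI : Coh.IsQCoh F := FinLFAnn.isQCoh_of_isFinLocFree hF
  have hloc : IsLocalizing (modulesSpecToSheaf.obj F) :=
    (isIso_fromTildeΓ_iff_isLocalizing F).1 (Scheme.Modules.isIso_fromTildeΓ_of_isQuasicoherent F)
  let s : Set R := {g | ∃ (n : ℕ) (e : Fin n → Γ(F, PrimeSpectrum.basicOpen g)), IsFrame F e}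
  have hs : Ideal.span s = ⊤ := by
    rw [← PrimeSpectrum.iSup_basicOpen_eq_top_iff']
    refine top_le_iff.1 fun x _ => ?_
    obtain ⟨U, n, e, hx, he⟩ := exists_frame hF x
    obtain ⟨_, ⟨g, rfl⟩, hxg, hgU⟩ := PrimeSpectrum.isTopologicalBasis_basic_opens.exists_subset_of_mem_open
      hx U.isOpen
    simp only [Opens.mem_iSup]
    exact ⟨g, ⟨⟨n, fun i => res F hgU (e i), he.res hgU⟩, hxg⟩⟩
  let M : Type u := Γ(F, ⊤)
  letI : AddCommGroup M := inferInstanceAs (AddCommGroup Γ(F, ⊤))
  letI : Module R M := inferInstanceAs (Module R Γ(F, ⊤))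
  let Mp : s → Type u := fun g => Γ(F, PrimeSpectrum.basicOpen g.1)
  let ϕ : ∀ g : s, M →ₗ[R] Mp g := fun g =>
    { toFun := fun x => F.presheaf.map (homOfLE (le_top : PrimeSpectrum.basicOpen g.1 ≤ (⊤ : (Spec R).Opens))).op x
      map_add' := fun x y => map_add _ x y
      map_smul' := fun r x => Scheme.Modules.map_smul_Spec _ r x }
  haveI : ∀ g : s, IsLocalizedModule (Submonoid.powers g.1) (ϕ g) := fun g => by exact hloc g.1
  have hfree : ∀ g : s, Module.Free Γ(Spec R, PrimeSpectrum.basicOpen g.1) (Mp g) ∧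
      Module.FinitePresentation Γ(Spec R, PrimeSpectrum.basicOpen g.1) (Mp g) := fun g => by
    obtain ⟨n, e, he⟩ := g.2
    have hA : IsAffineOpen (X := Spec R) (PrimeSpectrum.basicOpen g.1) := by
      rw [← basicOpen_eq_of_affine]
      exact (isAffineOpen_top (Spec R)).basicOpen _
    let b := LinearEquiv.ofBijective _ (bijective_linearCombination_of_isFrame hA he)
    exact ⟨Module.Free.of_equiv b, Module.FinitePresentation.of_equiv b⟩
  haveI : Module.FinitePresentation R M :=
    Module.FinitePresentation.of_localizationSpan' s hs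
      (Rₚ := fun g => Γ(Spec R, PrimeSpectrum.basicOpen g.1)) ϕ fun g => (hfree g).2
  haveI : Module.Flat R M := Module.flat_of_isLocalized_span R M s hs Mp ϕ fun g => by
    haveI := (hfree g).1
    haveI : Module.Flat R Γ(Spec R, PrimeSpectrum.basicOpen g.1) :=
      IsLocalization.flat _ (Submonoid.powers g.1)
    exact Module.Flat.trans R Γ(Spec R, PrimeSpectrum.basicOpen g.1) (Mp g)
  have h1 : Module.Finite R M := inferInstance
  have h2 : Module.Projective R M := Module.Flat.projective_of_finitePresentation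
  exact ⟨h1, h2⟩

/-- A finite locally free module on an affine scheme is a retract of a finite free module. -/
theorem exists_retract_spec {F : (Spec R).Modules} (hF : FlatMod.IsFinLocFree F) :
    ∃ (G : (Spec R).Modules) (i : F ⟶ G) (r : G ⟶ F), KFlatLib.IsFinFree G ∧ i ≫ r = 𝟙 F := by
  haveI : Coh.IsQCoh F := FinLFAnn.isQCoh_of_isFinLocFree hF
  obtain ⟨P, ⟨eP⟩, h₁, h₂⟩ : ∃ P : ModuleCat.{u} R, Nonempty (P ≅ moduleSpecΓFunctor.obj F) ∧
      Module.Finite R P ∧ Module.Projective R P :=
    ⟨moduleSpecΓFunctor.obj F, ⟨Iso.refl _⟩, projective_finite_sections hF⟩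
  obtain ⟨n, p, hp⟩ := Module.Finite.exists_fin' R P
  haveI : Projective P := (IsProjective.iff_projective (R := R) P).1 inferInstance
  let π : (∐ fun _ : Fin n => ModuleCat.of R R) ⟶ P :=
    Sigma.desc fun i => ModuleCat.ofHom (LinearMap.toSpanSingleton R P (p (Pi.single i 1)))
  have : Epi π := (ModuleCat.epi_iff_surjective π).mpr fun y => by
    obtain ⟨c, rfl⟩ := hp y
    refine ⟨∑ i, c i • (Sigma.ι (fun _ : Fin n => ModuleCat.of R R) i).hom (1 : R), ?_⟩
    conv_rhs => rw [show c = ∑ i, c i • Pi.single i (1 : R) from pi_eq_sum_univ' c]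
    rw [map_sum, map_sum]
    refine Finset.sum_congr rfl fun i _ => ?_
    rw [map_smul, map_smul]
    congr 1
    refine (congr($(Sigma.ι_desc (f := fun _ : Fin n => ModuleCat.of R R)
      (fun j => ModuleCat.ofHom (LinearMap.toSpanSingleton R P (p (Pi.single j 1)))) i).hom (1 : R))).trans ?_
    change (1 : R) • p (Pi.single i 1) = p (Pi.single i 1)
    rw [one_smul]
  let T := tilde.functor R
  haveI : HasCoproductsOfShape (Fin n) (Spec (CommRingCat.of R)).Modules := inferInstance
  haveI : IsIso ((tilde.adjunction (R := R)).counit.app F) :=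
    Scheme.Modules.isIso_fromTildeΓ_of_isQuasicoherent F
  let eF : T.obj P ≅ F := T.mapIso eP ≪≫ asIso ((tilde.adjunction (R := R)).counit.app F)
  refine ⟨T.obj (∐ fun _ : Fin n => ModuleCat.of R R),
    eF.inv ≫ T.map (Projective.factorThru (𝟙 P) π), T.map π ≫ eF.hom,
    KFlatLib.isFinFree_of_iso (PreservesCoproduct.iso T (fun _ : Fin n => ModuleCat.of R R) ≪≫
      Sigma.mapIso fun _ => tildeSelf).symm
      ⟨n, ⟨Iso.refl _⟩⟩, ?_⟩
  rw [Category.assoc, ← T.map_comp_assoc, Projective.factorThru_comp, T.map_id, Category.id_comp,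
    Iso.inv_hom_id]

theorem exists_retract_of_isAffineOpen {X : Scheme.{u}} {W : X.Opens} (hW : IsAffineOpen W)
    {F : X.Modules} (hF : FlatMod.IsFinLocFree F) :
    ∃ (G : W.toScheme.Modules) (i : (Scheme.Modules.restrictFunctor W.ι).obj F ⟶ G)
      (r : G ⟶ (Scheme.Modules.restrictFunctor W.ι).obj F), KFlatLib.IsFinFree G ∧ i ≫ r = 𝟙 _ := by
  have hF' : FlatMod.IsFinLocFree ((Scheme.Modules.restrictFunctor hW.fromSpec).obj F) :=
    Groth.Agent.PerfLib.isFinLocFree_res hW.fromSpec hF
  obtain ⟨G, i, r, hG, hir⟩ := exists_retract_spec hF'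
  let A := Scheme.Modules.restrictFunctor hW.isoSpec.hom
  let c : (Scheme.Modules.restrictFunctor W.ι).obj F ≅
      A.obj ((Scheme.Modules.restrictFunctor hW.fromSpec).obj F) :=
    (Scheme.Modules.restrictFunctorCongr hW.isoSpec_hom_fromSpec.symm).app F ≪≫
      (Scheme.Modules.restrictFunctorComp hW.isoSpec.hom hW.fromSpec).app F
  exact ⟨A.obj G, c.hom ≫ A.map i, A.map r ≫ c.inv,
    KFlatLib.isFinFree_of_iso ((Scheme.Modules.restrictFunctorIsoPullback _).app G).symm
      (KFlatLib.isFinFree_pull _ hG),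
    by rw [Category.assoc, ← A.map_comp_assoc, hir, A.map_id, Category.id_comp, Iso.hom_inv_id]⟩

end PerfHomLib
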