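import Groth.Agent.PerfHomLib.Base
import Groth.Agent.PerfHomLib.Retract
import Groth.Agent.PerfCompLib.Main

/-!
# Uniform vanishing of maps out of perfect objects
-/

set_option autoImplicit false
set_option linter.style.haveILetI false

universe u

open CategoryTheory CategoryTheory.Limits CategoryTheory.Pretriangulated AlgebraicGeometry TopologicalSpace
open PerfCompLib (extU FreeModel shortExact_mvSeq)

attribute [local instance] HasDerivedCategory.standard

namespace PerfHomLib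

variable {X : Scheme.{u}}

/-- Maps from `M` into objects with quasi-coherent cohomology vanishing on `[lo, hi]` are zero. -/
def Van (M : DCoh.D X) (lo hi : ℤ) : Prop :=
  ∀ L : DCoh.D X, DCoh.IsQCohD L → (∀ i, lo ≤ i → i ≤ hi → IsZero (DCoh.HD L i)) → ∀ φ : M ⟶ L, φ = 0

theorem Van.mono {M : DCoh.D X} {lo hi lo' hi' : ℤ} (h : Van M lo hi) (h₁ : lo' ≤ lo) (h₂ : hi ≤ hi') :
    Van M lo' hi' :=
  fun L hL hv => h L hL fun i hi₁ hi₂ => hv i (by omega) (by omega)

theorem Van.of_retract {M N : DCoh.D X} {lo hi : ℤ} (h : Van M lo hi) (i : N ⟶ M) (r : M ⟶ N)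
    (hir : i ≫ r = 𝟙 N) : Van N lo hi := fun L hL hv φ => by
  rw [← Category.id_comp φ, ← hir, Category.assoc, h L hL hv (r ≫ φ), comp_zero]

theorem Van.of_iso {M N : DCoh.D X} (e : M ≅ N) {lo hi : ℤ} (h : Van M lo hi) : Van N lo hi :=
  h.of_retract e.inv e.hom e.inv_hom_id

theorem Van.of_isZero {M : DCoh.D X} (h : IsZero M) (lo hi : ℤ) : Van M lo hi :=
  fun _ _ _ φ => h.eq_of_src φ 0

theorem Van.shift {M : DCoh.D X} {lo hi : ℤ} (h : Van M lo hi) (n : ℤ) :
    Van (M⟦n⟧) (lo - n) (hi - n) := fun L hL hv φ => by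
  refine (shiftFunctor (DCoh.D X) (-n)).map_injective ?_
  rw [Functor.map_zero]
  let e := (shiftFunctorCompIsoId (DCoh.D X) n (-n) (by omega)).app M
  refine (cancel_epi e.inv).1 ?_
  rw [comp_zero]
  refine h (L⟦-n⟧) (KFlatLib.isQCohD_shift hL (-n)) (fun i h₁ h₂ => ?_) _
  exact (hv (i - n) (by omega) (by omega)).of_iso
    (((DerivedCategory.homologyFunctor X.Modules 0).shiftIso (-n) i (i - n) (by omega)).app L)

theorem Van.ext₂ (T : Triangle (DCoh.D X)) (hT : T ∈ distTriang _) {lo hi : ℤ} (h₁ : Van T.obj₁ lo hi)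
    (h₃ : Van T.obj₃ lo hi) : Van T.obj₂ lo hi := fun L hL hv φ => by
  obtain ⟨ψ, hψ⟩ := Triangle.yoneda_exact₂ _ hT φ (h₁ L hL hv _)
  rw [hψ, h₃ L hL hv ψ, comp_zero]

theorem Van.ext₃ (T : Triangle (DCoh.D X)) (hT : T ∈ distTriang _) {lo hi lo' hi' : ℤ}
    (h₁ : Van T.obj₁ lo hi) (h₂ : Van T.obj₂ lo' hi') :
    Van T.obj₃ (min (lo - 1) lo') (max hi hi') :=
  Van.ext₂ T.rotate (rot_of_distTriang _ hT) (h₂.mono (min_le_right _ _) (le_max_right _ _))
    ((h₁.shift 1).mono (min_le_left _ _) ((by omega : hi - 1 ≤ hi).trans (le_max_left _ _)))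

theorem Van.biprod [HasBinaryBiproducts (DCoh.D X)] {M N : DCoh.D X} {lo hi : ℤ} (hM : Van M lo hi)
    (hN : Van N lo hi) : Van (M ⊞ N) lo hi := fun L hL hv φ =>
  biprod.hom_ext' _ _ ((hM L hL hv _).trans comp_zero.symm) ((hN L hL hv _).trans comp_zero.symm)

/-- Finite sums of free modules on an affine open. -/
theorem van_single_free {W : X.Opens} (hW : IsAffineOpen W) {G : W.toScheme.Modules}
    (hG : KFlatLib.IsFinFree G) (p : ℤ) :
    Van (DerivedCategory.Q.obj ((CochainComplex.singleFunctor X.Modules p).obj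
      ((CxOX.extZero W.ι).obj G))) p p := by
  classical
  obtain ⟨k, ⟨ek⟩⟩ := hG
  let J := CxOX.extZero W.ι
  let S := CochainComplex.singleFunctor X.Modules p ⋙ DerivedCategory.Q
  have h0 : Van (S.obj (KFlatLib.freeU W)) p p :=
    (Van.of_iso (((DerivedCategory.Q.commShiftIso (-p)).app _).symm ≪≫
      DerivedCategory.Q.mapIso (((CochainComplex.singleFunctors X.Modules).shiftIso (-p) p 0
        (by omega)).app (KFlatLib.freeU W)))
      ((show Van (free0 W) 0 0 from fun L hL hv φ =>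
        hom_free0_eq_zero hW hL (hv 0 le_rfl le_rfl) φ).shift (-p))).mono (by omega) (by omega)
  haveI : HasFiniteBiproducts X.Modules := Abelian.hasFiniteBiproducts
  let P : Fin k → X.Modules := fun _ => KFlatLib.freeU W
  refine Van.of_iso (M := S.obj (⨁ P)) (S.mapIso (biproduct.isoCoproduct P ≪≫
    Sigma.mapIso (fun _ => (PerfCompLib.extZeroUnitIso W).symm) ≪≫
    (PreservesCoproduct.iso J (fun _ : Fin k => Coh.structureModule _)).symm ≪≫ J.mapIso ek.symm)) ?_
  intro L hL hv φ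
  haveI : S.Additive := inferInstance
  rw [← Category.id_comp φ, ← S.map_id, ← biproduct.total, S.map_sum, Preadditive.sum_comp]
  refine Finset.sum_eq_zero fun i _ => ?_
  rw [S.map_comp, Category.assoc, h0 L hL hv (S.map (biproduct.ι P i) ≫ φ), comp_zero]

/-- `j_! j^*` of a complex, in the derived category. -/
noncomputable abbrev extQ (V : X.Opens) (F : CochainComplex X.Modules ℤ) : DCoh.D X :=
  DerivedCategory.Q.obj (((extU V).mapHomologicalComplex (ComplexShape.up ℤ)).obj F)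

/-- Uniform vanishing for a class of complexes extended by zero from an open. -/
def HasVan (K : CochainComplex X.Modules ℤ → Prop) (V : X.Opens) : Prop :=
  ∃ lo hi : ℤ, ∀ F, K F → Van (extQ V F) lo hi

theorem van_extQ_of_freeModel {V : X.Opens} (hV : IsAffineOpen V) {F : CochainComplex X.Modules ℤ}
    (hF : FreeModel V F) : ∃ lo hi : ℤ, Van (extQ V F) lo hi := by
  obtain ⟨E, ⟨⟨a, b, hE⟩, hf⟩, ⟨e⟩⟩ := hF
  let J := CxOX.extZero (Scheme.Opens.ι V)
  let JC := J.mapHomologicalComplex (ComplexShape.up ℤ)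
  let c : ((extU V).mapHomologicalComplex (ComplexShape.up ℤ)).obj F ≅
      JC.obj ((DCoh.restrictCx V).obj F) :=
    HomologicalComplex.Hom.isoOfComponents (fun i => Iso.refl _)
      (fun i j _ => (Category.id_comp _).trans (Category.comp_id _).symm)
  refine ⟨a, b, Van.of_iso (DerivedCategory.Q.mapIso c ≪≫ (J.mapDerivedCategoryFactors.app _).symm ≪≫
    J.mapDerivedCategory.mapIso e ≪≫ J.mapDerivedCategoryFactors.app E).symm ?_⟩
  exact PerfCompLib.prop_Q_of_bounded (fun M => Van M a b) (fun e h => Van.of_iso e h)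
    (fun T hT => Van.ext₂ T hT) (fun h => Van.of_isZero h a b) (b - a).toNat (JC.obj E) a b (by omega)
    (fun i hi => J.map_isZero (hE i hi))
    fun i h₁ h₂ => (van_single_free hV (hf i) i).mono h₁ h₂

theorem hasVan_finLocFree {V : X.Opens} (hV : IsAffineOpen V) :
    HasVan (fun F => ∃ G : X.Modules, FlatMod.IsFinLocFree G ∧
      F = (CochainComplex.singleFunctor X.Modules 0).obj G) V := by
  refine ⟨0, 0, ?_⟩
  rintro _ ⟨G, hG, rfl⟩
  obtain ⟨G', i, r, hG', hir⟩ := exists_retract_of_isAffineOpen hV hG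
  let J := CxOX.extZero V.ι
  let S := CochainComplex.singleFunctor X.Modules 0 ⋙ DerivedCategory.Q
  refine Van.of_iso (DerivedCategory.Q.mapIso
    ((HomologicalComplex.singleMapHomologicalComplex (extU V) (ComplexShape.up ℤ) 0).app G).symm) ?_
  refine (van_single_free hV hG' 0).of_retract (S.map (J.map i)) (S.map (J.map r)) ?_
  exact (S.map_comp _ _).symm.trans
    ((congrArg S.map ((J.map_comp i r).symm.trans ((congrArg J.map hir).trans (J.map_id _)))).trans (S.map_id _))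

theorem hasVan_sup {K : CochainComplex X.Modules ℤ → Prop} {P : Opens X.toTopCat → Prop}
    (hinf : ∀ U V, P U → P V → P (U ⊓ V)) (hP : ∀ U, P U → HasVan K U) :
    ∀ (n : ℕ) (W : Fin n → Opens X.toTopCat), (∀ k, P (W k)) → HasVan K (Finset.univ.sup W)
  | 0, W, _ => by
    have : Finset.univ.sup W = (⊥ : Opens X.toTopCat) := Finset.sup_empty
    rw [this]
    exact ⟨0, 0, fun F _ => Van.of_isZero (DerivedCategory.Q.map_isZero (PerfCompLib.isZero_extU_bot F)) 0 0⟩
  | n + 1, W, hW => by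
    let T : Opens X.toTopCat := Finset.univ.sup fun k : Fin n => W k.succ
    have hsup : Finset.univ.sup W = W 0 ⊔ T := by
      rw [Fin.univ_succ, Finset.sup_cons, Finset.sup_map]
      rfl
    obtain ⟨l₁, h₁, hv₁⟩ := hP _ (hW 0)
    obtain ⟨l₂, h₂, hv₂⟩ := hasVan_sup hinf hP n (fun k => W k.succ) fun k => hW k.succ
    obtain ⟨l₀, h₀, hv₀⟩ := hasVan_sup hinf hP n (fun k => W 0 ⊓ W k.succ)
      fun k => hinf _ _ (hW 0) (hW k.succ)
    rw [hsup]
    refine ⟨min (l₀ - 1) (min l₁ l₂), max h₀ (max h₁ h₂), fun F hF => ?_⟩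
    have hinf' : W 0 ⊓ T = Finset.univ.sup fun k : Fin n => W 0 ⊓ W k.succ :=
      Finset.sup_inf_distrib_left _ _ _
    refine Van.ext₃ _ (DerivedCategory.triangleOfSES_distinguished (shortExact_mvSeq (W 0) T F))
      (show Van (extQ (W 0 ⊓ T) F) l₀ h₀ by rw [hinf']; exact hv₀ F hF) ?_
    haveI : HasBinaryBiproducts (DCoh.D X) := HasBinaryBiproducts.of_hasBinaryProducts
    haveI : PreservesFiniteBiproducts (DerivedCategory.Q (C := X.Modules)) :=
      Functor.preservesFiniteBiproductsOfAdditive _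
    haveI : PreservesBinaryBiproducts (DerivedCategory.Q (C := X.Modules)) :=
      preservesBinaryBiproducts_of_preservesBiproducts _
    exact Van.of_iso (DerivedCategory.Q.mapBiprod _ _).symm
      (((hv₁ F hF).mono (min_le_left l₁ l₂) (le_max_left h₁ h₂)).biprod
        ((hv₂ F hF).mono (min_le_right l₁ l₂) (le_max_right h₁ h₂)))

theorem exists_fin_sup {ι : Type u} (U : ι → Opens X.toTopCat) {V : Opens X.toTopCat}
    (hV : IsCompact (V : Set X.toTopCat)) (hle : V ≤ ⨆ i, U i) (hge : ∀ i, U i ≤ V) :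
    ∃ (n : ℕ) (f : Fin n → ι), Finset.univ.sup (fun k => U (f k)) = V := by
  classical
  obtain ⟨t, ht⟩ := hV.elim_finite_subcover (fun i => (U i : Set X.toTopCat)) (fun i => (U i).isOpen)
    (fun x hx => by simpa using hle hx)
  refine ⟨t.card, fun k => (t.equivFin.symm k).1, le_antisymm (Finset.sup_le fun k _ => hge _) ?_⟩
  intro x hx
  have := ht hx
  simp only [Set.mem_iUnion] at this
  obtain ⟨i, hi, hxi⟩ := this
  have hle' := Finset.le_sup (f := fun k => U ((t.equivFin.symm k).1)) (Finset.mem_univ (t.equivFin ⟨i, hi⟩))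
  rw [Equiv.symm_apply_apply] at hle'
  exact hle' hxi

theorem hasVan_of_le_affine {K : CochainComplex X.Modules ℤ → Prop} {W : X.Opens} (hW : IsAffineOpen W)
    (hP : ∀ V : X.Opens, IsAffineOpen V → V ≤ W → HasVan K V) {V : Opens X.toTopCat}
    (hV : IsCompact (V : Set X.toTopCat)) (hle : V ≤ W) : HasVan K V := by
  let I := {g : Γ(X, W) // X.basicOpen g ≤ V}
  obtain ⟨n, f, hf⟩ := exists_fin_sup (fun g : I => (X.basicOpen g.1 : Opens X.toTopCat)) hV
    (fun x hx => by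
      obtain ⟨g, hg, hxg⟩ := hW.exists_basicOpen_le (V := V) ⟨x, hx⟩ (hle hx)
      exact Opens.mem_iSup.2 ⟨⟨g, hg⟩, hxg⟩) fun g => g.2
  rw [← hf]
  refine hasVan_sup (P := fun U => ∃ g : Γ(X, W), U = X.basicOpen g) ?_ ?_ n _ fun k => ⟨_, rfl⟩
  · rintro _ _ ⟨g, rfl⟩ ⟨h, rfl⟩
    exact ⟨g * h, (X.basicOpen_mul g h).symm⟩
  · rintro _ ⟨g, rfl⟩
    exact hP _ (hW.basicOpen g) (X.basicOpen_le g)

variable [CompactSpace X] [QuasiSeparatedSpace X]

theorem hasVan_top {K : CochainComplex X.Modules ℤ → Prop}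
    (hK : ∀ x : X, ∃ U : X.Opens, x ∈ U ∧ ∀ V : X.Opens, IsAffineOpen V → V ≤ U → HasVan K V) :
    HasVan K (⊤ : X.Opens) := by
  choose U hxU hU using hK
  choose W hW hxW hWU using fun x : X => Opens.isBasis_iff_nbhd.mp X.isBasis_affineOpens (hxU x)
  obtain ⟨n, f, hf⟩ := exists_fin_sup (fun x => (W x : Opens X.toTopCat)) (V := ⊤)
    (@isCompact_univ X.toTopCat _ ‹CompactSpace X›)
    (fun x _ => Opens.mem_iSup.2 ⟨x, hxW x⟩) fun x => le_top
  rw [← hf]
  refine hasVan_sup (P := fun V => IsCompact (V : Set X.toTopCat) ∧ ∃ x, V ≤ W x) ?_ ?_ n _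
    fun k => ⟨(hW _).isCompact, _, le_rfl⟩
  · rintro A B ⟨hA, x, hx⟩ ⟨hB, -⟩
    refine ⟨?_, x, inf_le_left.trans hx⟩
    rw [Opens.coe_inf]
    exact (@IsQuasiSeparated.of_quasiSeparatedSpace X.toTopCat _ ‹QuasiSeparatedSpace X› Set.univ) _ _
      (Set.subset_univ _) A.isOpen hA (Set.subset_univ _) B.isOpen hB
  · rintro A ⟨hA, x, hx⟩
    exact hasVan_of_le_affine (hW x) (fun V hV hVW => hU x V hV (hVW.trans (hWU x))) hA hx

theorem nonempty_extQ_top (F : CochainComplex X.Modules ℤ) :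
    Nonempty (extQ (⊤ : X.Opens) F ≅ DerivedCategory.Q.obj F) := by
  let φ := (NatTrans.mapHomologicalComplex (PerfCompLib.extι (⊤ : X.Opens)) (ComplexShape.up ℤ)).app F
  haveI : ∀ i, IsIso (φ.f i) := fun i => FiltSectLib.isIso_of_stalks _ fun x =>
    PerfCompLib.isIso_stalk_extι (U := (⊤ : X.Opens)) (Opens.mem_top x) (F.X i)
  haveI : IsIso φ := HomologicalComplex.Hom.isIso_of_components φ
  exact ⟨DerivedCategory.Q.mapIso (@asIso _ _ _ _ φ ‹_› ≪≫
    HomologicalComplex.Hom.isoOfComponents (fun i => Iso.refl _)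
      (fun i j _ => (Category.id_comp _).trans (Category.comp_id _).symm))⟩

theorem exists_van_of_isPerfect {M : DCoh.D X} (hM : DCoh.IsPerfect M) :
    ∃ lo hi : ℤ, lo ≤ hi ∧ Van M lo hi := by
  obtain ⟨F, ⟨eF⟩⟩ : ∃ F, Nonempty (DerivedCategory.Q.obj F ≅ M) :=
    ⟨_, ⟨DerivedCategory.Q.objObjPreimageIso M⟩⟩
  have hF : DCoh.IsPerfect (DerivedCategory.Q.obj F) := Groth.Agent.PerfLib.isPerfect_of_iso eF.symm hM
  obtain ⟨lo, hi, hv⟩ := hasVan_top (K := fun G => G = F) fun x => by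
    obtain ⟨U, hxU, hU⟩ := PerfCompLib.exists_freeModel hF x
    refine ⟨U, hxU, fun V hV hVU => ?_⟩
    obtain ⟨lo, hi, h⟩ := van_extQ_of_freeModel hV (hU.mono hVU)
    exact ⟨lo, hi, fun G hG => hG ▸ h⟩
  obtain ⟨e⟩ := nonempty_extQ_top F
  exact ⟨lo, max lo hi, le_max_left _ _,
    (Van.of_iso (e ≪≫ eF) (hv F rfl)).mono le_rfl (le_max_right _ _)⟩

theorem exists_van_finLocFree :
    ∃ lo hi : ℤ, ∀ G : X.Modules, FlatMod.IsFinLocFree G → Van (DCoh.inD X G) lo hi := by
  obtain ⟨lo, hi, hv⟩ := hasVan_top (X := X) (K := fun F => ∃ G : X.Modules, FlatMod.IsFinLocFree G ∧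
      F = (CochainComplex.singleFunctor X.Modules 0).obj G) fun x =>
    ⟨⊤, trivial, fun V hV _ => hasVan_finLocFree hV⟩
  refine ⟨lo, hi, fun G hG => ?_⟩
  obtain ⟨e⟩ := nonempty_extQ_top ((CochainComplex.singleFunctor X.Modules 0).obj G)
  exact Van.of_iso (e ≪≫ ((DerivedCategory.singleFunctorIsoCompQ X.Modules 0).app G).symm)
    (hv _ ⟨G, hG, rfl⟩)

end PerfHomLib
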