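import Groth.Agent.PerfCompLib.Base
import Groth.Agent.QRlimLib.Unbounded
import Groth.Agent.TildeDerLib.Tower

/-!
# Maps from free modules on affine opens into objects with quasi-coherent cohomology
-/

set_option autoImplicit false
set_option linter.style.haveILetI false

universe u

open CategoryTheory CategoryTheory.Limits CategoryTheory.Pretriangulated AlgebraicGeometry
open CochainComplex.HomComplex
open DerivedCategory.TStructure (t)

attribute [local instance] HasDerivedCategory.standard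

namespace PerfHomLib

variable {X : Scheme.{u}} {W : X.Opens}

/-- `j_!O_W` in degree `0`. -/
noncomputable abbrev free0 (W : X.Opens) : DCoh.D X :=
  DerivedCategory.Q.obj ((CochainComplex.singleFunctor X.Modules 0).obj (KFlatLib.freeU W))

theorem hom_free0_eq_zero_of_isGE (hW : IsAffineOpen W) {L : DCoh.D X} (hL : DCoh.IsQCohD L) (a : ℤ)
    [L.IsGE a] (h0 : IsZero (DCoh.HD L 0)) (φ : free0 W ⟶ L) : φ = 0 := by
  obtain ⟨I, hI, hfl, hge, ⟨e⟩⟩ := QRlimLib.exists_kInjective_bounded L a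
  haveI := hI
  haveI := hge
  let eH : ∀ q, DCoh.HD L q ≅ I.homology q := fun q =>
    (DerivedCategory.homologyFunctor X.Modules q).mapIso e ≪≫
      (DerivedCategory.homologyFunctorFactors X.Modules q).app I
  have hq : ∀ q, Coh.IsQCoh (I.homology q) := fun q => @QCohLib.isQCoh_of_iso _ _ _ (eH q) (hL q)
  obtain ⟨g, hg⟩ := Groth.Agent.DerLib.KInjUse.Q_map_surjective _ I (φ ≫ e.hom)
  let z₀ := Cochain.fromSingleEquiv (p := 0) (q := 0) (n := 0) rfl (Cochain.ofHom g)
  have hd : z₀ ≫ I.d 0 1 = 0 := by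
    change ((HomologicalComplex.singleObjXSelf (.up ℤ) 0 (KFlatLib.freeU W)).inv ≫
      (Cochain.ofHom g).v 0 0 rfl) ≫ I.d 0 1 = 0
    rw [Cochain.ofHom_v, Category.assoc]
    refine (congrArg (_ ≫ ·) (g.comm 0 1)).trans ?_
    exact (congrArg (_ ≫ ·) ((congrArg (· ≫ g.f 1)
      (HomologicalComplex.single_obj_d (c := ComplexShape.up ℤ) 0 (KFlatLib.freeU W) 0 1)).trans
        zero_comp)).trans comp_zero
  let z := I.liftCycles z₀ 1 (by simp) hd
  have hπ : (I.homologyπ 0).app W (KFlatLib.freeUEquiv W _ z) = 0 := by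
    have : Subsingleton Γ(I.homology 0, W) :=
      AddCommGrpCat.subsingleton_of_isZero
        (((Scheme.Modules.toPresheaf X).map_isZero (h0.of_iso (eH 0).symm)).obj (Opposite.op W))
    exact @Subsingleton.elim _ this _ _
  obtain ⟨w, hw⟩ := (QRlimLib.affExact hfl a hq hW 0).exact _ hπ
  have hr : KFlatLib.secMap w ≫ I.d (0 - 1) 0 = z₀ := by
    have : KFlatLib.secMap w ≫ I.toCycles (0 - 1) 0 = z := by
      apply (KFlatLib.freeUEquiv W _).injective
      rw [KFlatLib.freeUEquiv_comp, KFlatLib.secMap, Equiv.apply_symm_apply]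
      exact hw
    rw [← I.toCycles_i (0 - 1) 0, ← Category.assoc]
    exact (congrArg (· ≫ _) this).trans (I.liftCycles_i _ _ _ _)
  have h := PerfCompLib.Q_map_eq_of_single g 0 (KFlatLib.secMap w) (by
    refine hr.symm.trans ((add_zero _).symm.trans (congrArg (_ + ·) ?_))
    exact ((congrArg _ (Cochain.ofHom_zero _ _)).trans (map_zero _)).symm)
  rw [Functor.map_zero, hg] at h
  exact (cancel_mono e.hom).1 (h.trans zero_comp.symm)

theorem hom_free0_eq_zero (hW : IsAffineOpen W) {L : DCoh.D X} (hL : DCoh.IsQCohD L)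
    (h0 : IsZero (DCoh.HD L 0)) (φ : free0 W ⟶ L) : φ = 0 := by
  haveI := QRlimLib.hasProduct_of_isGE (CohCx.truncTower L)
  obtain ⟨c, hc⟩ := QRlimLib.exists_isRlimVia hL
  have hst : ∀ n : ℕ, 1 ≤ n →
      Function.Bijective (fun g : free0 W ⟶ CohCx.truncTower L (n + 1) => g ≫ CohCx.truncTowerMap L n) ∧
      Function.Surjective (fun g : (free0 W)⟦(1 : ℤ)⟧ ⟶ CohCx.truncTower L (n + 1) =>
        g ≫ CohCx.truncTowerMap L n) := fun n hn => by
    obtain ⟨F, i, δ, hT⟩ : ∃ (F : DCoh.D X) (i : F ⟶ CohCx.truncTower L (n + 1))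
        (δ : CohCx.truncTower L n ⟶ F⟦(1 : ℤ)⟧),
        Triangle.mk i (CohCx.truncTowerMap L n) δ ∈ distinguishedTriangles := by
      obtain ⟨C, g, h, hT⟩ := Pretriangulated.distinguished_cocone_triangle (CohCx.truncTowerMap L n)
      exact ⟨_, _, _, inv_rot_of_distTriang _ hT⟩
    let G := fun q => DerivedCategory.homologyFunctor X.Modules q
    have hz : ∀ q : ℤ, -(n : ℤ) + 1 ≤ q → IsZero (DCoh.HD F q) := fun q hq => by
      haveI := QRlimLib.isIso_HD_truncMap L n (q - 1) (by omega)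
      haveI := QRlimLib.isIso_HD_truncMap L n q (by omega)
      refine (DerivedCategory.HomologySequence.exact₁ _ hT (q - 1) q (by omega)).isZero_of_both_zeros ?_ ?_
      · exact (cancel_epi ((G (q - 1)).map (CohCx.truncTowerMap L n))).1
          ((DerivedCategory.HomologySequence.comp_δ _ hT (q - 1) q (by omega)).trans comp_zero.symm)
      · exact (cancel_mono ((G q).map (CohCx.truncTowerMap L n))).1 (((G q).map_comp _ _).symm.trans
          ((congrArg _ (comp_distTriang_mor_zero₁₂ _ hT)).trans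
            ((Functor.map_zero _ _ _).trans zero_comp.symm)))
    haveI : F.IsGE (-(n : ℤ) - 1) := by
      rw [DerivedCategory.isGE_iff]
      intro q hq
      refine (DerivedCategory.HomologySequence.exact₁ _ hT (q - 1) q (by omega)).isZero_of_both_zeros
        ((DerivedCategory.isZero_of_isGE (CohCx.truncTower L n) (-(n : ℤ)) (q - 1) (by omega)).eq_of_src _ _)
        ((DerivedCategory.isZero_of_isGE (CohCx.truncTower L (n + 1)) (-((n + 1 : ℕ) : ℤ)) q
          (by omega)).eq_of_tgt _ _)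
    have hq : DCoh.IsQCohD F :=
      KFlatLib.isQCohD₂ (T := (Triangle.mk i (CohCx.truncTowerMap L n) δ).invRotate)
        (inv_rot_of_distTriang _ hT)
        (KFlatLib.isQCohD_shift (QRlimLib.isQCohD_trunc hL n) (-1)) (QRlimLib.isQCohD_trunc hL (n + 1))
    have hF : ∀ f : free0 W ⟶ F, f = 0 := hom_free0_eq_zero_of_isGE hW hq (-(n : ℤ) - 1) (hz 0 (by omega))
    have hF1 : ∀ f : free0 W ⟶ F⟦(1 : ℤ)⟧, f = 0 := by
      haveI : (F⟦(1 : ℤ)⟧).IsGE (-(n : ℤ) - 2) := t.isGE_shift F (-(n : ℤ) - 1) 1 _ (by omega)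
      exact hom_free0_eq_zero_of_isGE hW (KFlatLib.isQCohD_shift hq 1) (-(n : ℤ) - 2)
        ((hz 1 (by omega)).of_iso
          (((DerivedCategory.homologyFunctor X.Modules 0).shiftIso (1 : ℤ) 0 1 (by omega)).app F))
    refine ⟨⟨fun g₁ g₂ h => ?_, fun y => ?_⟩, fun y => ?_⟩
    · rw [← sub_eq_zero]
      obtain ⟨f, hf⟩ : ∃ f : free0 W ⟶ F, g₁ - g₂ = f ≫ i :=
        Triangle.coyoneda_exact₂ _ hT (g₁ - g₂) ((Preadditive.sub_comp _ _ _).trans (sub_eq_zero.2 h))
      rw [hf, hF f, zero_comp]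
    · obtain ⟨g, hg⟩ : ∃ g : free0 W ⟶ CohCx.truncTower L (n + 1), y = g ≫ CohCx.truncTowerMap L n :=
        Triangle.coyoneda_exact₃ _ hT y (hF1 _)
      exact ⟨g, hg.symm⟩
    · obtain ⟨f, hf⟩ := (shiftFunctor (DCoh.D X) (1 : ℤ)).map_surjective (y ≫ δ)
      obtain ⟨g, hg⟩ : ∃ g : (free0 W)⟦(1 : ℤ)⟧ ⟶ CohCx.truncTower L (n + 1),
          y = g ≫ CohCx.truncTowerMap L n :=
        Triangle.coyoneda_exact₃ _ hT y (hf.symm.trans (by rw [hF f, Functor.map_zero]; rfl))
      exact ⟨g, hg.symm⟩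
  have hb : Function.Bijective (fun g : free0 W ⟶ L => g ≫ CohCx.toTruncTower L 1) := by
    have := TildeDerLib.bijective_comp_π (CohCx.truncTowerMap L) hc (free0 W) 1
      (fun n hn => (hst n hn).1) (fun n hn => (hst n hn).2)
    simpa [Pi.lift_π] using this
  haveI := QRlimLib.isIso_HD_toTrunc L 1 0 (by omega)
  refine hb.1 (Eq.trans ?_ zero_comp.symm)
  exact hom_free0_eq_zero_of_isGE hW (QRlimLib.isQCohD_trunc hL 1) (-((1 : ℕ) : ℤ))
    (h0.of_iso (asIso ((DerivedCategory.homologyFunctor X.Modules 0).map (CohCx.toTruncTower L 1))).symm) _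

end PerfHomLib
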